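import Groth.Prelude.Def_FlatCA
import Groth.Agent.RelFPLib.Basic
import Mathlib.RingTheory.LocalProperties.FinitePresentation
import Mathlib.RingTheory.IsTensorProduct
import Mathlib.RingTheory.Localization.Away.AdjoinRoot
import Mathlib.RingTheory.Finiteness.ModuleFinitePresentation

/-! Relative finite presentation of modules: ring level calculus. -/

set_option autoImplicit false
set_option linter.style.haveILetI false

universe u

open TensorProduct
open Groth.Agent.RelFPLib

namespace FlatnLib

variable {R A : Type u} [CommRing R] [CommRing A] [Algebra R A]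
variable {M : Type u} [AddCommGroup M] [Module A M]

theorem fpVia_equiv {P A' : Type u} [CommRing P] [CommRing A'] (φ : P →+* A) (φ' : P →+* A')
    {M' : Type u} [AddCommGroup M'] [Module A' M'] (e : M ≃+ M')
    (he : ∀ p m, e (φ p • m) = φ' p • e m) (h : FPVia φ M) : FPVia φ' M' := by
  letI := Module.compHom M φ
  letI := Module.compHom M' φ'
  haveI : Module.FinitePresentation P M := h
  exact Module.FinitePresentation.of_equiv ({ e with map_smul' := he } : M ≃ₗ[P] M')

theorem relFP_iff [Algebra.FiniteType R A] {P : Type u} [CommRing P] [Algebra R P]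
    [Algebra.FinitePresentation R P] (α : P →ₐ[R] A) (hα : Function.Surjective α) :
    FlatCA.RelFinitePresentation R A M ↔ FPVia α.toRingHom M := by
  constructor
  · rintro ⟨n, φ, hφ, h⟩
    exact (fpVia_iff φ hφ α hα M).1 h
  · intro h
    obtain ⟨n, φ, hφ⟩ := Algebra.FiniteType.iff_quotient_mvPolynomial''.mp ‹Algebra.FiniteType R A›
    exact ⟨n, φ, hφ, (fpVia_iff φ hφ α hα M).2 h⟩

theorem relFP_of_fpVia {P : Type u} [CommRing P] [Algebra R P] [Algebra.FinitePresentation R P]
    (α : P →ₐ[R] A) (hα : Function.Surjective α) (h : FPVia α.toRingHom M) :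
    FlatCA.RelFinitePresentation R A M :=
  haveI : Algebra.FiniteType R A := Algebra.FiniteType.of_surjective α hα
  (relFP_iff α hα).2 h

theorem finiteType_of_relFP (h : FlatCA.RelFinitePresentation R A M) : Algebra.FiniteType R A := by
  obtain ⟨n, φ, hφ, -⟩ := h
  exact Algebra.FiniteType.of_surjective φ hφ

theorem relFP_equiv {M' : Type u} [AddCommGroup M'] [Module A M'] (e : M ≃ₗ[A] M')
    (h : FlatCA.RelFinitePresentation R A M) : FlatCA.RelFinitePresentation R A M' := by
  obtain ⟨n, φ, hφ, h⟩ := h
  exact ⟨n, φ, hφ, fpVia_equiv φ.toRingHom φ.toRingHom e.toAddEquiv (fun p m => e.map_smul (φ p) m) h⟩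

theorem relFP_tensor {A' : Type u} [CommRing A'] [Algebra A A'] [Algebra R A'] [IsScalarTower R A A']
    [Algebra.FinitePresentation A A'] (h : FlatCA.RelFinitePresentation R A M) :
    FlatCA.RelFinitePresentation R A' (A' ⊗[A] M) := by
  obtain ⟨n, φ, hφ, h⟩ := h
  haveI : Algebra.FiniteType R A := Algebra.FiniteType.of_surjective φ hφ
  haveI : Algebra.FiniteType R A' :=
    Algebra.FiniteType.trans (inferInstance : Algebra.FiniteType R A) (inferInstance : Algebra.FiniteType A A')
  obtain ⟨k, γ, hγ⟩ := Algebra.FiniteType.iff_quotient_mvPolynomial''.mp ‹Algebra.FiniteType R A'›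
  exact ⟨k, γ, hγ, fpVia_tensor M φ hφ h γ hγ⟩

theorem relFP_isBaseChange {A' : Type u} [CommRing A'] [Algebra A A'] [Algebra R A']
    [IsScalarTower R A A'] [Algebra.FinitePresentation A A'] {M' : Type u} [AddCommGroup M']
    [Module A M'] [Module A' M'] [IsScalarTower A A' M'] (f : M →ₗ[A] M') (hf : IsBaseChange A' f)
    (h : FlatCA.RelFinitePresentation R A M) : FlatCA.RelFinitePresentation R A' M' :=
  relFP_equiv hf.equiv (relFP_tensor h)

/-- Changing the base along a finitely presented algebra. -/
theorem relFP_base_iff (R' : Type u) [CommRing R'] [Algebra R R'] [Algebra R' A]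
    [IsScalarTower R R' A] [Algebra.FinitePresentation R R'] [Algebra.FiniteType R' A] :
    FlatCA.RelFinitePresentation R A M ↔ FlatCA.RelFinitePresentation R' A M := by
  haveI : Algebra.FiniteType R A :=
    Algebra.FiniteType.trans (inferInstance : Algebra.FiniteType R R') ‹Algebra.FiniteType R' A›
  obtain ⟨k, γ, hγ⟩ := Algebra.FiniteType.iff_quotient_mvPolynomial''.mp ‹Algebra.FiniteType R' A›
  haveI : Algebra.FinitePresentation R (MvPolynomial (Fin k) R') :=
    Algebra.FinitePresentation.trans R R' _
  exact (relFP_iff (γ.restrictScalars R) hγ).trans (relFP_iff γ hγ).symm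

/-- Composing with a finitely presented base. -/
theorem relFP_trans (R' : Type u) [CommRing R'] [Algebra R R'] [Algebra R' A]
    [IsScalarTower R R' A] [Algebra.FinitePresentation R R']
    (h : FlatCA.RelFinitePresentation R' A M) : FlatCA.RelFinitePresentation R A M := by
  haveI := finiteType_of_relFP h
  exact (relFP_base_iff R').2 h

theorem relFP_of_surjective {M' : Type u} [AddCommGroup M'] [Module A M'] (g : M →ₗ[A] M')
    (hg : Function.Surjective g) (hk : (LinearMap.ker g).FG)
    (h : FlatCA.RelFinitePresentation R A M) : FlatCA.RelFinitePresentation R A M' := by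
  obtain ⟨n, φ, hφ, h⟩ := h
  refine ⟨n, φ, hφ, ?_⟩
  letI := Module.compHom M φ.toRingHom
  letI := Module.compHom M' φ.toRingHom
  letI : Algebra (MvPolynomial (Fin n) R) A := φ.toRingHom.toAlgebra
  haveI : IsScalarTower (MvPolynomial (Fin n) R) A M := .of_algebraMap_smul fun _ _ => rfl
  haveI : IsScalarTower (MvPolynomial (Fin n) R) A M' := .of_algebraMap_smul fun _ _ => rfl
  haveI : Module.FinitePresentation (MvPolynomial (Fin n) R) M := h
  refine Module.finitePresentation_of_surjective (g.restrictScalars _) hg ?_
  exact hk.restrictScalars_of_surjective hφ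

theorem relFP_of_ext {M₁ M₃ : Type u} [AddCommGroup M₁] [Module A M₁] [AddCommGroup M₃] [Module A M₃]
    (f : M₁ →ₗ[A] M) (g : M →ₗ[A] M₃) (hf : Function.Injective f) (hg : Function.Surjective g)
    (hex : Function.Exact f g) (h₁ : FlatCA.RelFinitePresentation R A M₁)
    (h₃ : FlatCA.RelFinitePresentation R A M₃) : FlatCA.RelFinitePresentation R A M := by
  haveI := finiteType_of_relFP h₁
  obtain ⟨n, φ, hφ, h₁⟩ := h₁
  have h₃ := (relFP_iff φ hφ).1 h₃
  refine ⟨n, φ, hφ, ?_⟩
  letI := Module.compHom M φ.toRingHom
  letI := Module.compHom M₁ φ.toRingHom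
  letI := Module.compHom M₃ φ.toRingHom
  letI : Algebra (MvPolynomial (Fin n) R) A := φ.toRingHom.toAlgebra
  haveI : IsScalarTower (MvPolynomial (Fin n) R) A M := .of_algebraMap_smul fun _ _ => rfl
  haveI : IsScalarTower (MvPolynomial (Fin n) R) A M₁ := .of_algebraMap_smul fun _ _ => rfl
  haveI : IsScalarTower (MvPolynomial (Fin n) R) A M₃ := .of_algebraMap_smul fun _ _ => rfl
  haveI : Module.FinitePresentation (MvPolynomial (Fin n) R) M₁ := h₁
  haveI : Module.FinitePresentation (MvPolynomial (Fin n) R) M₃ := h₃
  let g' := g.restrictScalars (MvPolynomial (Fin n) R)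
  let f' := f.restrictScalars (MvPolynomial (Fin n) R)
  have hkr : LinearMap.range f' = LinearMap.ker g' :=
    (LinearMap.exact_iff.1 (show Function.Exact f' g' from hex)).symm
  haveI : Module.FinitePresentation (MvPolynomial (Fin n) R) (LinearMap.ker g') :=
    Module.FinitePresentation.of_equiv ((LinearEquiv.ofInjective f' hf).trans (LinearEquiv.ofEq _ _ hkr))
  exact Module.finitePresentation_of_ker g' hg

/-- Relative finite presentation is local on the spectrum of the algebra. -/
theorem relFP_of_span [Algebra.FiniteType R A] (s : Set A) (hs : Ideal.span s = ⊤)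
    (B : s → Type u) [∀ g, CommRing (B g)] [∀ g, Algebra A (B g)] [∀ g, Algebra R (B g)]
    [∀ g, IsScalarTower R A (B g)] [∀ g : s, IsLocalization.Away (g : A) (B g)]
    (N : s → Type u) [∀ g, AddCommGroup (N g)] [∀ g, Module A (N g)] [∀ g, Module (B g) (N g)]
    [∀ g, IsScalarTower A (B g) (N g)] (loc : ∀ g, M →ₗ[A] N g)
    [∀ g : s, IsLocalizedModule (Submonoid.powers (g : A)) (loc g)]
    (h : ∀ g, FlatCA.RelFinitePresentation R (B g) (N g)) :
    FlatCA.RelFinitePresentation R A M := by
  obtain ⟨n, φ, hφ⟩ := Algebra.FiniteType.iff_quotient_mvPolynomial''.mp ‹Algebra.FiniteType R A›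
  refine ⟨n, φ, hφ, ?_⟩
  let P := MvPolynomial (Fin n) R
  letI : Algebra P A := φ.toRingHom.toAlgebra
  letI := Module.compHom M φ.toRingHom
  haveI : IsScalarTower P A M := .of_algebraMap_smul fun _ _ => rfl
  refine Module.FinitePresentation.of_localizationSpan (φ ⁻¹' s ∪ RingHom.ker φ.toRingHom) ?_ ?_
  · rw [Ideal.span_union, Ideal.span_eq]
    have : (Ideal.span (φ ⁻¹' s)).map φ.toRingHom = ⊤ := by
      rw [Ideal.map_span]
      exact (congrArg Ideal.span (Set.image_preimage_eq s hφ)).trans hs
    have h' := congrArg (Ideal.comap φ.toRingHom) this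
    rw [Ideal.comap_map_of_surjective φ.toRingHom hφ, Ideal.comap_top] at h'
    exact h'
  · rintro ⟨p, hp | hp⟩
    · let g : s := ⟨φ p, hp⟩
      letI : Algebra P (B g) := ((algebraMap A (B g)).comp φ.toRingHom).toAlgebra
      haveI : IsScalarTower R P (B g) := .of_algebraMap_eq fun r => by
        change algebraMap R (B g) r = algebraMap A (B g) (φ (algebraMap R P r))
        rw [φ.commutes, ← IsScalarTower.algebraMap_apply]
      let γ : Localization.Away p →ₐ[P] B g :=
        IsLocalization.liftAlgHom (M := Submonoid.powers p) (f := Algebra.ofId P (B g)) fun y => by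
          obtain ⟨y, k, rfl⟩ := y
          rw [map_pow]
          exact (IsLocalization.Away.algebraMap_isUnit (S := B g) (g : A)).pow k
      have hγ : Function.Surjective γ := fun b => by
        obtain ⟨⟨a, _, k, rfl⟩, hab⟩ := IsLocalization.surj (Submonoid.powers (g : A)) b
        obtain ⟨q, rfl⟩ := hφ a
        refine ⟨IsLocalization.mk' _ q (⟨p ^ k, k, rfl⟩ : Submonoid.powers p), ?_⟩
        have hab' : b * algebraMap A (B g) (g : A) ^ k = algebraMap A (B g) (φ q) := by
          rw [← map_pow]; exact hab
        refine ((IsLocalization.Away.algebraMap_isUnit (S := B g) (g : A)).pow k).mul_right_cancel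
          (Eq.trans ?_ hab'.symm)
        have h1 := congrArg γ (IsLocalization.mk'_spec (Localization.Away p) q
          (⟨p ^ k, k, rfl⟩ : Submonoid.powers p))
        rw [map_mul, AlgHom.commutes, AlgHom.commutes] at h1
        change _ * (algebraMap A (B g) (φ (p ^ k))) = algebraMap A (B g) (φ q) at h1
        rwa [map_pow, map_pow] at h1
      haveI : Algebra.FinitePresentation P (Localization.Away p) :=
        IsLocalization.Away.finitePresentation p
      haveI : Algebra.FinitePresentation R (Localization.Away p) :=
        Algebra.FinitePresentation.trans R P _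
      haveI : Algebra.FiniteType R (B g) := finiteType_of_relFP (h g)
      have hN := (relFP_iff (γ.restrictScalars R) hγ).1 (h g)
      letI := Module.compHom (N g) (γ.restrictScalars R).toRingHom
      haveI : Module.FinitePresentation (Localization.Away p) (N g) := hN
      letI := Module.compHom (N g) φ.toRingHom
      haveI : IsScalarTower P (Localization.Away p) (N g) := .of_algebraMap_smul fun q m => by
        change γ (algebraMap P _ q) • m = φ q • m
        rw [γ.commutes]
        exact algebraMap_smul (B g) (φ q) m
      let loc' : M →ₗ[P] N g :=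
        { toFun := loc g
          map_add' := (loc g).map_add
          map_smul' := fun q m => (loc g).map_smul (φ q) m }
      haveI : IsLocalizedModule (Submonoid.powers p) loc' := by
        refine IsLocalizedModule.Away.mk_of_addCommGroup ?_ ?_ ?_
        · rw [Module.End.isUnit_iff]
          have hu := (Module.End.isUnit_iff (algebraMap A (Module.End A (N g)) (g : A))).1
            (IsLocalizedModule.map_units (loc g) ⟨(g : A), Submonoid.mem_powers _⟩)
          exact hu
        · intro y
          obtain ⟨⟨m, _, k, rfl⟩, hm⟩ := IsLocalizedModule.surj (Submonoid.powers (g : A)) (loc g) y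
          refine ⟨k, m, ?_⟩
          change φ (p ^ k) • y = loc g m
          rw [map_pow]
          exact hm
        · intro m hm
          obtain ⟨⟨_, k, rfl⟩, hk⟩ := (IsLocalizedModule.eq_zero_iff (Submonoid.powers (g : A)) (loc g)).1 hm
          refine ⟨k, ?_⟩
          change φ (p ^ k) • m = 0
          rw [map_pow]
          exact hk
      let e := IsLocalizedModule.linearEquiv (Submonoid.powers p) loc'
        (LocalizedModule.mkLinearMap (Submonoid.powers p) M)
      exact Module.FinitePresentation.of_equiv
        (e.extendScalarsOfIsLocalization (Submonoid.powers p) (Localization.Away p))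
    · have : Subsingleton (LocalizedModule.Away p M) := by
        refine LocalizedModule.subsingleton_iff.2 fun m => ⟨p, Submonoid.mem_powers p, ?_⟩
        change φ p • m = 0
        rw [show φ p = 0 from hp, zero_smul]
      exact inferInstance

end FlatnLib
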