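import Groth.Agent.FlatnLib.Alg
import Mathlib.RingTheory.IntegralClosure.IsIntegralClosure.Basic
import Mathlib.RingTheory.TensorProduct.Quotient

/-! Relative finite presentation: base change and finite extensions. -/

set_option autoImplicit false
set_option linter.style.haveILetI false

universe u

open TensorProduct
open Groth.Agent.RelFPLib

namespace FlatnLib

variable {R A : Type u} [CommRing R] [CommRing A] [Algebra R A]
variable {M : Type u} [AddCommGroup M] [Module A M]

theorem relFP_baseChange (R' A' : Type u) [CommRing R'] [Algebra R R'] [CommRing A']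
    [Algebra R' A'] [Algebra A A'] [Algebra R A'] [IsScalarTower R R' A'] [IsScalarTower R A A']
    [Algebra.IsPushout R R' A A'] (h : FlatCA.RelFinitePresentation R A M) :
    FlatCA.RelFinitePresentation R' A' (A' ⊗[A] M) := by
  obtain ⟨n, φ, hφ, h⟩ := h
  let P := MvPolynomial (Fin n) R
  let P' := R' ⊗[R] P
  letI : Algebra P A := φ.toRingHom.toAlgebra
  haveI : IsScalarTower R P A := .of_algebraMap_eq fun r => (φ.commutes r).symm
  letI := Module.compHom M φ.toRingHom
  haveI : IsScalarTower P A M := .of_algebraMap_smul fun _ _ => rfl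
  letI : Algebra P A' := ((algebraMap A A').comp (algebraMap P A)).toAlgebra
  haveI : IsScalarTower P A A' := .of_algebraMap_eq fun _ => rfl
  haveI : IsScalarTower R P A' := .of_algebraMap_eq fun r => by
    change algebraMap R A' r = algebraMap A A' (algebraMap P A (algebraMap R P r))
    rw [← IsScalarTower.algebraMap_apply R P A, ← IsScalarTower.algebraMap_apply]
  let ψ : P' →ₐ[R'] A' :=
    Algebra.TensorProduct.lift (Algebra.ofId R' A') (IsScalarTower.toAlgHom R P A')
      fun _ _ => Commute.all _ _
  letI : Algebra P P' := Algebra.TensorProduct.rightAlgebra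
  letI : Algebra P' A' := ψ.toRingHom.toAlgebra
  haveI : IsScalarTower P P' A' := .of_algebraMap_eq fun p => by
    change algebraMap P A' p = ψ (1 ⊗ₜ p)
    rw [Algebra.TensorProduct.lift_tmul]; simp
  haveI : IsScalarTower R' P' A' := .of_algebraMap_eq fun r => (ψ.commutes r).symm
  haveI : IsScalarTower R P' A' := .of_algebraMap_eq fun r => by
    change algebraMap R A' r = ψ (algebraMap R' P' (algebraMap R R' r))
    rw [ψ.commutes, ← IsScalarTower.algebraMap_apply]
  haveI hsq : Algebra.IsPushout P P' A A' := by
    haveI : Algebra.IsPushout R P R' P' := TensorProduct.isPushout'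
    haveI : Algebra.IsPushout R A R' A' := Algebra.IsPushout.symm inferInstance
    exact Algebra.IsPushout.symm
      ((Algebra.IsPushout.comp_iff (R := R) (S := P) (R' := R') (S' := P') (T := A) (T' := A')).1 ‹_›)
  haveI : Algebra.FinitePresentation R' P' := Algebra.FinitePresentation.baseChange R'
  have hψ : Function.Surjective ψ := fun y => by
    obtain ⟨t, rfl⟩ := (Algebra.IsPushout.equiv R R' A A').surjective y
    induction t using TensorProduct.induction_on with
    | zero => exact ⟨0, by simp⟩
    | tmul r a =>
      obtain ⟨p, rfl⟩ := hφ a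
      refine ⟨r ⊗ₜ p, ?_⟩
      rw [Algebra.IsPushout.equiv_tmul, Algebra.TensorProduct.lift_tmul]
      rfl
    | add x y hx hy =>
      obtain ⟨a, ha⟩ := hx
      obtain ⟨b, hb⟩ := hy
      exact ⟨a + b, by simp [ha, hb]⟩
  refine relFP_of_fpVia ψ hψ ?_
  haveI : Module.FinitePresentation P M := h
  let e := Algebra.IsPushout.cancelBaseChange P P' A A' M
  haveI : Module.FinitePresentation P' (P' ⊗[P] M) := inferInstance
  exact fpVia_equiv (A' := A') (RingHom.id P') ψ.toRingHom e.symm.toAddEquiv
    (fun p m => (e.symm.map_smul p m).trans (algebraMap_smul A' p _).symm)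
    (show Module.FinitePresentation P' (P' ⊗[P] M) from inferInstance)

theorem finitePresentation_restrict {P P' M : Type u} [CommRing P] [CommRing P'] [Algebra P P']
    [Module.Finite P P'] [AddCommGroup M] [Module P M] [Module P' M] [IsScalarTower P P' M]
    [Module.FinitePresentation P M] : Module.FinitePresentation P' M := by
  haveI : Module.Finite P' M := Module.Finite.of_restrictScalars_finite P P' M
  obtain ⟨n, l, hl⟩ := Module.Finite.exists_fin' P' M
  refine Module.finitePresentation_of_surjective l hl ?_
  have := Module.FinitePresentation.fg_ker (l.restrictScalars P) hl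
  exact Submodule.FG.of_restrictScalars P (by rwa [← LinearMap.ker_restrictScalars])

theorem finite_quotient_monic {P σ : Type u} [CommRing P] [Finite σ] (m : σ → Polynomial P)
    (hm : ∀ j, (m j).Monic) :
    Module.Finite P (MvPolynomial σ P ⧸
      (Ideal.span (Set.range fun j => Polynomial.aeval (MvPolynomial.X j) (m j)) :
        Ideal (MvPolynomial σ P))) := by
  set J : Ideal (MvPolynomial σ P) :=
    Ideal.span (Set.range fun j => Polynomial.aeval (MvPolynomial.X j) (m j)) with hJ
  have htop : Algebra.adjoin P (Ideal.Quotient.mkₐ P J '' Set.range MvPolynomial.X) = ⊤ := by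
    rw [Algebra.adjoin_image, MvPolynomial.adjoin_range_X, Algebra.map_top]
    exact (AlgHom.range_eq_top _).2 (Ideal.Quotient.mkₐ_surjective P J)
  refine ⟨?_⟩
  rw [← Algebra.top_toSubmodule, ← htop]
  refine fg_adjoin_of_finite ((Set.finite_range _).image _) ?_
  rintro _ ⟨_, ⟨j, rfl⟩, rfl⟩
  refine ⟨m j, hm j, ?_⟩
  change Polynomial.aeval (Ideal.Quotient.mkₐ P J (MvPolynomial.X j)) (m j) = 0
  rw [Polynomial.aeval_algHom_apply]
  exact Ideal.Quotient.eq_zero_iff_mem.2 (Ideal.subset_span ⟨j, rfl⟩)

set_option maxHeartbeats 800000 in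
/-- Finite extensions do not change relative finite presentation. -/
theorem relFP_finite_iff {B : Type u} [CommRing B] [Algebra R B] [Algebra B A] [IsScalarTower R B A]
    [Module.Finite B A] [Algebra.FiniteType R B] [Module B M] [IsScalarTower B A M] :
    FlatCA.RelFinitePresentation R A M ↔ FlatCA.RelFinitePresentation R B M := by
  classical
  haveI : Algebra.FiniteType R A :=
    Algebra.FiniteType.trans ‹Algebra.FiniteType R B› (inferInstance : Algebra.FiniteType B A)
  obtain ⟨n, φ, hφ⟩ := Algebra.FiniteType.iff_quotient_mvPolynomial''.mp ‹Algebra.FiniteType R B›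
  let P := MvPolynomial (Fin n) R
  letI : Algebra P B := φ.toRingHom.toAlgebra
  letI : Algebra P A := ((algebraMap B A).comp φ.toRingHom).toAlgebra
  haveI : IsScalarTower R P A := .of_algebraMap_eq fun r => by
    change algebraMap R A r = algebraMap B A (φ (algebraMap R P r))
    rw [φ.commutes, ← IsScalarTower.algebraMap_apply]
  haveI : IsScalarTower P B A := .of_algebraMap_eq fun _ => rfl
  haveI : Module.Finite P B := Module.Finite.of_surjective (Algebra.linearMap P B) hφ
  haveI : Module.Finite P A := Module.Finite.trans B A
  obtain ⟨s, hs⟩ := (Module.Finite.fg_top (R := P) (M := A))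
  choose m hm hme using fun j : s => IsIntegral.of_finite P (j : A)
  let J : Ideal (MvPolynomial s P) :=
    Ideal.span (Set.range fun j => Polynomial.aeval (MvPolynomial.X j) (m j))
  let P' := MvPolynomial s P ⧸ J
  have hJfg : J.FG := Submodule.fg_span (Set.finite_range _)
  haveI : Algebra.FinitePresentation P P' := Algebra.FinitePresentation.quotient hJfg
  let β : MvPolynomial s P →ₐ[P] A := MvPolynomial.aeval fun j => (j : A)
  have hJ : ∀ a ∈ J, β a = 0 := fun a ha => by
    have : J ≤ RingHom.ker β.toRingHom := Ideal.span_le.2 (by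
      rintro _ ⟨j, rfl⟩
      change β (Polynomial.aeval (MvPolynomial.X j) (m j)) = 0
      rw [← Polynomial.aeval_algHom_apply, MvPolynomial.aeval_X]
      exact hme j)
    exact this ha
  let ψ : P' →ₐ[P] A := Ideal.Quotient.liftₐ J β hJ
  have hψ : Function.Surjective ψ := by
    intro a
    have : a ∈ Submodule.span P (s : Set A) := by rw [hs]; trivial
    induction this using Submodule.span_induction with
    | mem x hx => exact ⟨Ideal.Quotient.mk J (MvPolynomial.X ⟨x, hx⟩), by
        change β (MvPolynomial.X ⟨x, hx⟩) = x
        simp [β]⟩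
    | zero => exact ⟨0, map_zero ψ⟩
    | add x y _ _ hx hy =>
      obtain ⟨a, rfl⟩ := hx; obtain ⟨b, rfl⟩ := hy
      exact ⟨a + b, map_add ψ a b⟩
    | smul p x _ hx =>
      obtain ⟨a, rfl⟩ := hx
      exact ⟨p • a, map_smul ψ p a⟩
  haveI : Module.Finite P P' := finite_quotient_monic m hm
  haveI : Module.FinitePresentation P P' :=
    Module.FinitePresentation.of_finite_of_finitePresentation P P'
  haveI : Algebra.FinitePresentation R P' := Algebra.FinitePresentation.trans R P P'
  have hψR : Function.Surjective (ψ.restrictScalars R) := hψ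
  have e1 := relFP_iff (R := R) (A := A) (M := M) (P := P') (ψ.restrictScalars R) hψR
  have e2 := relFP_iff (R := R) (A := B) (M := M) φ hφ
  rw [e1, e2]
  letI := Module.compHom M (ψ.restrictScalars R).toRingHom
  letI := Module.compHom M φ.toRingHom
  haveI : IsScalarTower P P' M := ⟨fun p x m => by
    change ψ (p • x) • m = φ p • (ψ x • m)
    rw [map_smul, Algebra.smul_def, mul_smul]
    exact algebraMap_smul A (φ p) _⟩
  exact ⟨fun h => haveI : Module.FinitePresentation P' M := h; Module.FinitePresentation.trans P M P',
    fun h => haveI : Module.FinitePresentation P M := h; finitePresentation_restrict (P := P)⟩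

end FlatnLib
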