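import Groth.Prelude.Def_Flatn
import Groth.Agent.FlatnLib.AlgChange
import Groth.Agent.QCohLib.FPSections
import Mathlib.AlgebraicGeometry.Morphisms.FiniteType
import Mathlib.AlgebraicGeometry.Morphisms.FinitePresentation

/-! Relative finite presentation of quasi-coherent modules can be checked on all affine pairs. -/

set_option autoImplicit false
set_option backward.isDefEq.respectTransparency false
set_option linter.style.haveILetI false

universe u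

open CategoryTheory AlgebraicGeometry Opposite TopologicalSpace
open Groth.Agent.QCohLib

namespace FlatnLib

variable {X S : Scheme.{u}} (f : X ⟶ S) (F : X.Modules)

/-- Unbundled form of `Flatn.RelFPOn`. -/
def On (U : X.Opens) (V : S.Opens) (h : U ≤ f ⁻¹ᵁ V) : Prop :=
  letI := (f.appLE V U h).hom.toAlgebra
  FlatCA.RelFinitePresentation Γ(S, V) Γ(X, U) Γ(F, U)

theorem relFPOn_iff (U : X.affineOpens) (V : S.affineOpens)
    (h : (U : X.Opens) ≤ f ⁻¹ᵁ (V : S.Opens)) :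
    Flatn.RelFPOn f F U V h ↔ On f F U V h :=
  Iff.rfl

variable [Coh.IsQCoh F]

/-- Localisation on the source. -/
theorem on_basicOpen {U : X.Opens} (hU : IsAffineOpen U) {V : S.Opens} (h : U ≤ f ⁻¹ᵁ V)
    (g : Γ(X, U)) (hUV : On f F U V h) (h' : X.basicOpen g ≤ f ⁻¹ᵁ V) :
    On f F (X.basicOpen g) V h' := by
  letI := (f.appLE V U h).hom.toAlgebra
  letI := (f.appLE V (X.basicOpen g) h').hom.toAlgebra
  letI : Algebra Γ(X, U) Γ(X, X.basicOpen g) :=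
    (X.presheaf.map (homOfLE (X.basicOpen_le g)).op).hom.toAlgebra
  haveI : IsScalarTower Γ(S, V) Γ(X, U) Γ(X, X.basicOpen g) := .of_algebraMap_eq' (by
    simp only [RingHom.algebraMap_toAlgebra, ← CommRingCat.hom_comp, Scheme.Hom.appLE_map])
  haveI := hU.isLocalization_basicOpen g
  haveI : Algebra.FinitePresentation Γ(X, U) Γ(X, X.basicOpen g) :=
    IsLocalization.Away.finitePresentation g
  letI := Module.compHom Γ(F, X.basicOpen g)
    (X.presheaf.map (homOfLE (X.basicOpen_le g)).op).hom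
  haveI : IsScalarTower Γ(X, U) Γ(X, X.basicOpen g) Γ(F, X.basicOpen g) :=
    .of_algebraMap_smul fun _ _ => rfl
  obtain ⟨r, hr⟩ := exists_isLocalizedModule_res F hU g
  exact relFP_isBaseChange r
    ((isLocalizedModule_iff_isBaseChange (Submonoid.powers g) Γ(X, X.basicOpen g) r).1 hr) hUV

omit [Coh.IsQCoh F] in
/-- Localisation on the base. -/
theorem on_base_iff [LocallyOfFiniteType f] {U : X.Opens} (hU : IsAffineOpen U) {V : S.Opens}
    (hV : IsAffineOpen V) (r : Γ(S, V)) (h₁ : U ≤ f ⁻¹ᵁ S.basicOpen r) (h : U ≤ f ⁻¹ᵁ V) :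
    On f F U V h ↔ On f F U (S.basicOpen r) h₁ := by
  letI := (f.appLE V U h).hom.toAlgebra
  letI := (f.appLE (S.basicOpen r) U h₁).hom.toAlgebra
  letI : Algebra Γ(S, V) Γ(S, S.basicOpen r) :=
    (S.presheaf.map (homOfLE (S.basicOpen_le r)).op).hom.toAlgebra
  haveI : IsScalarTower Γ(S, V) Γ(S, S.basicOpen r) Γ(X, U) := .of_algebraMap_eq' (by
    simp only [RingHom.algebraMap_toAlgebra, ← CommRingCat.hom_comp, Scheme.Hom.map_appLE])
  haveI := hV.isLocalization_basicOpen r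
  haveI : Algebra.FinitePresentation Γ(S, V) Γ(S, S.basicOpen r) :=
    IsLocalization.Away.finitePresentation r
  haveI : Algebra.FiniteType Γ(S, S.basicOpen r) Γ(X, U) :=
    f.finiteType_appLE (hV.basicOpen r) hU h₁
  exact relFP_base_iff Γ(S, S.basicOpen r)

omit [Coh.IsQCoh F] in
theorem on_congr {U U' : X.Opens} (e : U = U') {V : S.Opens} (h : U ≤ f ⁻¹ᵁ V) :
    On f F U V h ↔ On f F U' V (e ▸ h) := by
  subst e; exact Iff.rfl

omit [Coh.IsQCoh F] in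
theorem on_congr_base {U : X.Opens} {V V' : S.Opens} (e : V = V') (h : U ≤ f ⁻¹ᵁ V) :
    On f F U V h ↔ On f F U V' (e ▸ h) := by
  subst e; exact Iff.rfl

/-- Being finitely presented relative to the base can be checked locally on the source. -/
theorem on_of_local [LocallyOfFiniteType f] {U : X.Opens} (hU : IsAffineOpen U) {V : S.Opens}
    (hV : IsAffineOpen V) (h : U ≤ f ⁻¹ᵁ V)
    (hloc : ∀ x ∈ U, ∃ g : Γ(X, U), x ∈ X.basicOpen g ∧
      On f F (X.basicOpen g) V ((X.basicOpen_le g).trans h)) : On f F U V h := by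
  let s : Set Γ(X, U) := {g | On f F (X.basicOpen g) V ((X.basicOpen_le g).trans h)}
  have hs : Ideal.span s = ⊤ := by
    rw [← hU.iSup_basicOpen_eq_self_iff]
    refine le_antisymm (iSup_le fun g => X.basicOpen_le g.1) fun x hx => ?_
    obtain ⟨g, hxg, hg⟩ := hloc x hx
    exact Opens.mem_iSup.2 ⟨⟨g, hg⟩, hxg⟩
  letI := (f.appLE V U h).hom.toAlgebra
  haveI : Algebra.FiniteType Γ(S, V) Γ(X, U) := f.finiteType_appLE hV hU h
  letI : ∀ g : s, Algebra Γ(X, U) Γ(X, X.basicOpen g.1) := fun g =>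
    (X.presheaf.map (homOfLE (X.basicOpen_le g.1)).op).hom.toAlgebra
  letI : ∀ g : s, Algebra Γ(S, V) Γ(X, X.basicOpen g.1) := fun g =>
    (f.appLE V (X.basicOpen g.1) ((X.basicOpen_le g.1).trans h)).hom.toAlgebra
  haveI : ∀ g : s, IsScalarTower Γ(S, V) Γ(X, U) Γ(X, X.basicOpen g.1) := fun g =>
    .of_algebraMap_eq' (by
      simp only [RingHom.algebraMap_toAlgebra, ← CommRingCat.hom_comp, Scheme.Hom.appLE_map])
  haveI : ∀ g : s, IsLocalization.Away (g : Γ(X, U)) Γ(X, X.basicOpen g.1) :=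
    fun g => hU.isLocalization_basicOpen g.1
  letI : ∀ g : s, Module Γ(X, U) Γ(F, X.basicOpen g.1) := fun g =>
    Module.compHom _ (X.presheaf.map (homOfLE (X.basicOpen_le g.1)).op).hom
  haveI : ∀ g : s, IsScalarTower Γ(X, U) Γ(X, X.basicOpen g.1) Γ(F, X.basicOpen g.1) := fun g =>
    .of_algebraMap_smul fun _ _ => rfl
  choose r hr using fun g : s => exists_isLocalizedModule_res F hU g.1
  haveI := hr
  exact relFP_of_span s hs (fun g => Γ(X, X.basicOpen g.1)) (fun g => Γ(F, X.basicOpen g.1)) r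
    fun g => g.2

/-- If every point has some good affine pair, every affine pair is good. -/
theorem on_of_locally [LocallyOfFiniteType f]
    (H : ∀ x : X, ∃ (U : X.Opens) (V : S.Opens) (h : U ≤ f ⁻¹ᵁ V), IsAffineOpen U ∧
      IsAffineOpen V ∧ x ∈ U ∧ On f F U V h)
    {U : X.Opens} (hU : IsAffineOpen U) {V : S.Opens} (hV : IsAffineOpen V) (h : U ≤ f ⁻¹ᵁ V) :
    On f F U V h := by
  refine on_of_local f F hU hV h fun x hx => ?_
  obtain ⟨U₀, V₀, h₀, hU₀, hV₀, hx₀, hon⟩ := H x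
  obtain ⟨r₀, r, er, hfx⟩ := exists_basicOpen_le_affine_inter hV₀ hV (f x) ⟨h₀ hx₀, h hx⟩
  let g₀ := f.appLE V₀ U₀ h₀ r₀
  have hg₀ : X.basicOpen g₀ = U₀ ⊓ f ⁻¹ᵁ S.basicOpen r₀ := Scheme.basicOpen_appLE ..
  have hU₁ : IsAffineOpen (X.basicOpen g₀) := hU₀.basicOpen g₀
  obtain ⟨a, g, ea, hxa⟩ := exists_basicOpen_le_affine_inter hU₁ hU x
    ⟨hg₀ ▸ ⟨hx₀, hfx⟩, hx⟩
  have e1 : X.basicOpen a ≤ f ⁻¹ᵁ S.basicOpen r₀ :=
    (X.basicOpen_le a).trans (hg₀.le.trans inf_le_right)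
  have o1 : On f F (X.basicOpen a) V₀ ((X.basicOpen_le a).trans ((X.basicOpen_le g₀).trans h₀)) :=
    on_basicOpen f F hU₁ _ a (on_basicOpen f F hU₀ h₀ g₀ hon ((X.basicOpen_le g₀).trans h₀)) _
  have o2 : On f F (X.basicOpen a) (S.basicOpen r₀) e1 :=
    (on_base_iff f F (hU₁.basicOpen a) hV₀ r₀ e1 _).1 o1
  have o3 : On f F (X.basicOpen g) (S.basicOpen r) _ :=
    (on_congr_base f F er _).1 ((on_congr f F ea e1).1 o2)
  exact ⟨g, ea ▸ hxa, (on_base_iff f F (hU.basicOpen g) hV r _ _).2 o3⟩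

/-- Build `IsRelFP` from a local criterion. -/
theorem isRelFP_of_locally [LocallyOfFiniteType f]
    (H : ∀ x : X, ∃ (U : X.Opens) (V : S.Opens) (h : U ≤ f ⁻¹ᵁ V), IsAffineOpen U ∧
      IsAffineOpen V ∧ x ∈ U ∧ On f F U V h) : Flatn.IsRelFP f F := by
  refine ⟨Set.univ, eq_top_iff.2 fun s _ => ?_, fun V _ => ?_⟩
  · obtain ⟨_, ⟨V, hV, rfl⟩, hs, -⟩ :=
      S.isBasis_affineOpens.exists_subset_of_mem_open (Set.mem_univ s) isOpen_univ
    exact Opens.mem_iSup.2 ⟨⟨V, hV⟩, Opens.mem_iSup.2 ⟨trivial, hs⟩⟩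
  · refine ⟨{U | (U : X.Opens) ≤ f ⁻¹ᵁ (V : S.Opens)}, le_antisymm (iSup₂_le fun U hU => hU) ?_,
      fun U _ h => on_of_locally f F H U.2 V.2 h⟩
    intro x hx
    obtain ⟨_, ⟨U, hU, rfl⟩, hxU, hsub⟩ :=
      X.isBasis_affineOpens.exists_subset_of_mem_open hx (f ⁻¹ᵁ (V : S.Opens)).2
    exact Opens.mem_iSup.2 ⟨⟨U, hU⟩, Opens.mem_iSup.2 ⟨hsub, hxU⟩⟩

omit [Coh.IsQCoh F] in
/-- `IsRelFP` gives a good pair around every point. -/
theorem exists_on (hF : Flatn.IsRelFP f F) (x : X) :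
    ∃ (U : X.Opens) (V : S.Opens) (h : U ≤ f ⁻¹ᵁ V), IsAffineOpen U ∧ IsAffineOpen V ∧ x ∈ U ∧
      On f F U V h := by
  obtain ⟨𝒱, hcov, hall⟩ := hF
  have hfx : f x ∈ ⨆ V ∈ 𝒱, (V : S.Opens) := by rw [hcov]; trivial
  simp only [Opens.mem_iSup] at hfx
  obtain ⟨V, hV, hxV⟩ := hfx
  obtain ⟨𝒰, hcovU, hgood⟩ := hall V hV
  have hxU : x ∈ ⨆ U ∈ 𝒰, (U : X.Opens) := by rw [hcovU]; exact hxV
  simp only [Opens.mem_iSup] at hxU
  obtain ⟨U, hU, hxU⟩ := hxU
  have hle : (U : X.Opens) ≤ f ⁻¹ᵁ (V : S.Opens) := hcovU ▸ le_iSup₂_of_le U hU le_rfl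
  exact ⟨U, V, hle, U.2, V.2, hxU, hgood U hU hle⟩

theorem on_of_isRelFP [LocallyOfFiniteType f] (hF : Flatn.IsRelFP f F) {U : X.Opens}
    (hU : IsAffineOpen U) {V : S.Opens} (hV : IsAffineOpen V) (h : U ≤ f ⁻¹ᵁ V) : On f F U V h :=
  on_of_locally f F (exists_on f F hF) hU hV h

omit [Coh.IsQCoh F] in
theorem exists_affine_pair (x : X) :
    ∃ (U : X.Opens) (V : S.Opens), IsAffineOpen U ∧ IsAffineOpen V ∧ x ∈ U ∧ U ≤ f ⁻¹ᵁ V := by
  obtain ⟨_, ⟨V, hV, rfl⟩, hs, -⟩ :=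
    S.isBasis_affineOpens.exists_subset_of_mem_open (Set.mem_univ (f x)) isOpen_univ
  obtain ⟨_, ⟨U, hU, rfl⟩, hxU, hle⟩ :=
    X.isBasis_affineOpens.exists_subset_of_mem_open (a := x) (u := ↑(f ⁻¹ᵁ V)) hs (f ⁻¹ᵁ V).2
  exact ⟨U, V, hU, hV, hxU, hle⟩

theorem isRelFP_of_forall [LocallyOfFiniteType f]
    (H : ∀ (U : X.Opens) (V : S.Opens) (h : U ≤ f ⁻¹ᵁ V), IsAffineOpen U → IsAffineOpen V →
      On f F U V h) : Flatn.IsRelFP f F :=
  isRelFP_of_locally f F fun x => by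
    obtain ⟨U, V, hU, hV, hx, h⟩ := exists_affine_pair f x
    exact ⟨U, V, h, hU, hV, hx, H U V h hU hV⟩

end FlatnLib
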