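import Groth.Agent.FlatnLib.Main
import Groth.Agent.PullbackMod.Props
import Groth.Agent.QCohLib.Exact
import Mathlib.AlgebraicGeometry.Morphisms.Flat
import Mathlib.AlgebraicGeometry.Morphisms.Finite

/-! Stability properties of relative finite presentation. -/

set_option autoImplicit false
set_option backward.isDefEq.respectTransparency false
set_option linter.style.haveILetI false

universe u

open CategoryTheory CategoryTheory.Limits AlgebraicGeometry Opposite TopologicalSpace TensorProduct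
open Groth.Agent.QCohLib

namespace FlatnLib

variable {X Y S : Scheme.{u}}

theorem isRelFP_comp (f : X ⟶ Y) (g : Y ⟶ S) [LocallyOfFiniteType f] [LocallyOfFinitePresentation g]
    (F : X.Modules) [Coh.IsQCoh F] (hF : Flatn.IsRelFP f F) : Flatn.IsRelFP (f ≫ g) F := by
  refine isRelFP_of_locally _ F fun x => ?_
  obtain ⟨W, V, hW, hV, hfx, hWV⟩ := exists_affine_pair g (f x)
  obtain ⟨_, ⟨U, hU, rfl⟩, hxU, hUW : U ≤ f ⁻¹ᵁ W⟩ :=
    X.isBasis_affineOpens.exists_subset_of_mem_open (a := x) (u := ↑(f ⁻¹ᵁ W)) hfx (f ⁻¹ᵁ W).2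
  have h : U ≤ (f ≫ g) ⁻¹ᵁ V := hUW.trans (f.preimage_mono hWV)
  refine ⟨U, V, h, hU, hV, hxU, ?_⟩
  have hon := on_of_isRelFP f F hF hU hW hUW
  letI := (f.appLE W U hUW).hom.toAlgebra
  letI := (g.appLE V W hWV).hom.toAlgebra
  letI := ((f ≫ g).appLE V U h).hom.toAlgebra
  haveI : IsScalarTower Γ(S, V) Γ(Y, W) Γ(X, U) := .of_algebraMap_eq' (by
    simp only [RingHom.algebraMap_toAlgebra, ← CommRingCat.hom_comp, Scheme.Hom.appLE_comp_appLE])
  haveI : Algebra.FinitePresentation Γ(S, V) Γ(Y, W) := g.finitePresentation_appLE hV hW hWV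
  exact relFP_trans Γ(Y, W) hon

theorem isRelFP_pullback (f : X ⟶ Y) (g : Y ⟶ S) [LocallyOfFinitePresentation f] [LocallyOfFiniteType g]
    (G : Y.Modules) [Coh.IsQCoh G] (hG : Flatn.IsRelFP g G) :
    Flatn.IsRelFP (f ≫ g) ((Scheme.Modules.pullback f).obj G) := by
  haveI : Coh.IsQCoh ((Scheme.Modules.pullback f).obj G) := Groth.Agent.PullbackMod.isQCoh_pullback f G
  refine isRelFP_of_locally _ _ fun x => ?_
  obtain ⟨W, V, hW, hV, hfx, hWV⟩ := exists_affine_pair g (f x)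
  obtain ⟨_, ⟨U, hU, rfl⟩, hxU, hUW : U ≤ f ⁻¹ᵁ W⟩ :=
    X.isBasis_affineOpens.exists_subset_of_mem_open (a := x) (u := ↑(f ⁻¹ᵁ W)) hfx (f ⁻¹ᵁ W).2
  have h : U ≤ (f ≫ g) ⁻¹ᵁ V := hUW.trans (f.preimage_mono hWV)
  refine ⟨U, V, h, hU, hV, hxU, ?_⟩
  have hon := on_of_isRelFP g G hG hW hV hWV
  letI := (f.appLE W U hUW).hom.toAlgebra
  letI := (g.appLE V W hWV).hom.toAlgebra
  letI := ((f ≫ g).appLE V U h).hom.toAlgebra
  haveI : IsScalarTower Γ(S, V) Γ(Y, W) Γ(X, U) := .of_algebraMap_eq' (by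
    simp only [RingHom.algebraMap_toAlgebra, ← CommRingCat.hom_comp, Scheme.Hom.appLE_comp_appLE])
  haveI : Algebra.FinitePresentation Γ(Y, W) Γ(X, U) := f.finitePresentation_appLE hW hU hUW
  obtain ⟨φ, -⟩ := Groth.Agent.PullbackMod.exists_pullback_sections_equiv f G hW hU hUW
  exact relFP_equiv φ (relFP_tensor hon)

theorem isRelFP_baseChange {X' S' : Scheme.{u}} (f : X ⟶ S) [LocallyOfFiniteType f] (F : X.Modules)
    [Coh.IsQCoh F] (g : S' ⟶ S) (f' : X' ⟶ S') (g' : X' ⟶ X) (hc : IsPullback g' f' f g)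
    (hF : Flatn.IsRelFP f F) : Flatn.IsRelFP f' ((Scheme.Modules.pullback g').obj F) := by
  haveI : Coh.IsQCoh ((Scheme.Modules.pullback g').obj F) := Groth.Agent.PullbackMod.isQCoh_pullback g' F
  haveI : LocallyOfFiniteType f' := MorphismProperty.of_isPullback hc inferInstance
  refine isRelFP_of_locally _ _ fun x => ?_
  obtain ⟨U, V, hU, hV, hxU, hUV⟩ := exists_affine_pair f (g' x)
  have hxV : g (f' x) ∈ V := by
    rw [← Scheme.Hom.comp_apply, ← hc.w, Scheme.Hom.comp_apply]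
    exact hUV hxU
  obtain ⟨_, ⟨V', hV', rfl⟩, hxV', hVV : V' ≤ g ⁻¹ᵁ V⟩ :=
    S'.isBasis_affineOpens.exists_subset_of_mem_open (a := f' x) (u := ↑(g ⁻¹ᵁ V)) hxV (g ⁻¹ᵁ V).2
  let U' : X'.Opens := g' ⁻¹ᵁ U ⊓ f' ⁻¹ᵁ V'
  have hU' : IsAffineOpen U' := by
    haveI : IsAffine U := hU
    haveI : IsAffine V := hV
    haveI : IsAffine V' := hV'
    exact .of_isIso (Scheme.Hom.isPullback_resLE hc hVV hUV (UY := U') rfl).isoPullback.hom
  refine ⟨U', V', inf_le_right, hU', hV', ⟨hxU, hxV'⟩, ?_⟩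
  have hon := on_of_isRelFP f F hF hU hV hUV
  have sq := (isIso_pushoutSection_iff hc hVV hUV (UY := U') rfl).1
    (isIso_pushoutSection_of_isAffineOpen hc hVV hUV rfl hV hV' hU)
  letI := (f.appLE V U hUV).hom.toAlgebra
  letI := (g.appLE V V' hVV).hom.toAlgebra
  letI := (g'.appLE U U' inf_le_left).hom.toAlgebra
  letI := (f'.appLE V' U' inf_le_right).hom.toAlgebra
  letI : Algebra Γ(S, V) Γ(X', U') := (f.appLE V U hUV ≫ g'.appLE U U' inf_le_left).hom.toAlgebra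
  haveI : IsScalarTower Γ(S, V) Γ(X, U) Γ(X', U') := .of_algebraMap_eq' rfl
  haveI : IsScalarTower Γ(S, V) Γ(S', V') Γ(X', U') := .of_algebraMap_eq' (by
    simp only [RingHom.algebraMap_toAlgebra, ← CommRingCat.hom_comp]; rw [sq.w])
  haveI : Algebra.IsPushout Γ(S, V) Γ(S', V') Γ(X, U) Γ(X', U') :=
    CommRingCat.isPushout_iff_isPushout.1 sq.flip
  obtain ⟨φ, -⟩ := Groth.Agent.PullbackMod.exists_pullback_sections_equiv g' F hU hU'
    (inf_le_left : U' ≤ g' ⁻¹ᵁ U)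
  exact relFP_equiv φ (relFP_baseChange Γ(S', V') Γ(X', U') hon)

section Exact

variable (f : X ⟶ S) [LocallyOfFiniteType f] (E : ShortComplex X.Modules) (hE : E.ShortExact)

/-- A morphism of modules on sections. -/
noncomputable def appL {M N : X.Modules} (φ : M ⟶ N) (U : X.Opens) : Γ(M, U) →ₗ[Γ(X, U)] Γ(N, U) where
  toFun := φ.app U
  map_add' a b := map_add (φ.app U).hom a b
  map_smul' r m := Scheme.Modules.Hom.app_smul φ r m

theorem isRelFP_quotient (hE : E.ShortExact) [Coh.IsQCoh E.X₁] [Coh.IsQCoh E.X₂] [Coh.IsQCoh E.X₃]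
    (h₁ : CohB1.IsFT E.X₁) (h₂ : Flatn.IsRelFP f E.X₂) : Flatn.IsRelFP f E.X₃ := by
  refine isRelFP_of_forall f _ fun U V h hU hV => ?_
  have hon := on_of_isRelFP f _ h₂ hU hV h
  haveI := finite_sections E.X₁ h₁ hU
  letI := (f.appLE V U h).hom.toAlgebra
  refine relFP_of_surjective (appL E.g U) (app_surjective hE inferInstance hU) ?_ hon
  have : LinearMap.ker (appL E.g U) = LinearMap.range (appL E.f U) :=
    le_antisymm (fun s hs => app_exact hE U s hs) (by rintro _ ⟨t, rfl⟩; exact app_g_f U t)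
  rw [this, LinearMap.range_eq_map]
  exact Module.Finite.fg_top.map _

theorem isRelFP_extension (hE : E.ShortExact) [Coh.IsQCoh E.X₁] [Coh.IsQCoh E.X₂] [Coh.IsQCoh E.X₃]
    (h₁ : Flatn.IsRelFP f E.X₁) (h₃ : Flatn.IsRelFP f E.X₃) : Flatn.IsRelFP f E.X₂ := by
  refine isRelFP_of_forall f _ fun U V h hU hV => ?_
  letI := (f.appLE V U h).hom.toAlgebra
  exact relFP_of_ext (appL E.f U) (appL E.g U) (app_injective hE U)
    (app_surjective hE inferInstance hU)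
    (fun s => ⟨fun hs => app_exact hE U s hs, by rintro ⟨t, rfl⟩; exact app_g_f U t⟩)
    (on_of_isRelFP f _ h₁ hU hV h) (on_of_isRelFP f _ h₃ hU hV h)

theorem isRelFP_retract {F G : X.Modules} [Coh.IsQCoh F] (i : F ⟶ G) (p : G ⟶ F) (hip : i ≫ p = 𝟙 F)
    (hG : Flatn.IsRelFP f G) : Flatn.IsRelFP f F := by
  refine isRelFP_of_locally f F fun x => ?_
  obtain ⟨U, V, h, hU, hV, hxU, hon⟩ := exists_on f G hG x
  refine ⟨U, V, h, hU, hV, hxU, ?_⟩
  letI := (f.appLE V U h).hom.toAlgebra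
  have hpi : ∀ s, appL p U (appL i U s) = s := fun s => congr($(hip).app U s)
  obtain ⟨n, φ, hφ, hfp⟩ := hon
  refine relFP_of_surjective (appL p U) (fun s => ⟨_, hpi s⟩) ?_ ⟨n, φ, hφ, hfp⟩
  haveI : Module.Finite Γ(X, U) Γ(G, U) := by
    haveI := Groth.Agent.RelFPLib.fpVia_target φ.toRingHom hφ Γ(G, U) hfp
    infer_instance
  have : LinearMap.ker (appL p U) = LinearMap.range (LinearMap.id - appL i U ∘ₗ appL p U) := by
    refine le_antisymm (fun s hs => ⟨s, ?eq⟩) ?le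
    case eq =>
      change s - appL i U (appL p U s) = s
      rw [LinearMap.mem_ker.1 hs, map_zero, sub_zero]
    case le =>
      rintro _ ⟨t, rfl⟩
      simp [hpi]
  rw [this, LinearMap.range_eq_map]
  exact Module.Finite.fg_top.map _

end Exact

theorem isRelFP_push_iff (π : X ⟶ Y) (g : Y ⟶ S) [IsFinite π] [LocallyOfFiniteType g]
    (F : X.Modules) [Coh.IsQCoh F] [Coh.IsQCoh ((Coh.push π).obj F)] :
    Flatn.IsRelFP (π ≫ g) F ↔ Flatn.IsRelFP g ((Coh.push π).obj F) := by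
  have key : ∀ (W : Y.Opens) (V : S.Opens) (hWV : W ≤ g ⁻¹ᵁ V), IsAffineOpen W → IsAffineOpen V →
      (On g ((Coh.push π).obj F) W V hWV ↔
        On (π ≫ g) F (π ⁻¹ᵁ W) V (π.preimage_mono hWV)) := by
    intro W V hWV hW hV
    have h : π ⁻¹ᵁ W ≤ (π ≫ g) ⁻¹ᵁ V := π.preimage_mono hWV
    letI := (g.appLE V W hWV).hom.toAlgebra
    letI := ((π ≫ g).appLE V (π ⁻¹ᵁ W) h).hom.toAlgebra
    letI := (π.app W).hom.toAlgebra
    haveI : IsScalarTower Γ(S, V) Γ(Y, W) Γ(X, π ⁻¹ᵁ W) := .of_algebraMap_eq' (by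
      simp only [RingHom.algebraMap_toAlgebra, ← CommRingCat.hom_comp, Scheme.Hom.app_eq_appLE,
        Scheme.Hom.appLE_comp_appLE])
    haveI : Module.Finite Γ(Y, W) Γ(X, π ⁻¹ᵁ W) := π.finite_app W hW
    haveI : Algebra.FiniteType Γ(S, V) Γ(Y, W) := g.finiteType_appLE hV hW hWV
    letI : Module Γ(Y, W) Γ(F, π ⁻¹ᵁ W) := Module.compHom _ (π.app W).hom
    haveI : IsScalarTower Γ(Y, W) Γ(X, π ⁻¹ᵁ W) Γ(F, π ⁻¹ᵁ W) := .of_algebraMap_smul fun _ _ => rfl
    have e := relFP_finite_iff (R := Γ(S, V)) (B := Γ(Y, W)) (A := Γ(X, π ⁻¹ᵁ W)) (M := Γ(F, π ⁻¹ᵁ W))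
    exact e.symm
  constructor
  · intro hF
    refine isRelFP_of_forall g _ fun W V hWV hW hV => (key W V hWV hW hV).2 ?_
    exact on_of_isRelFP _ F hF (hW.preimage π) hV _
  · intro hF
    refine isRelFP_of_locally _ F fun x => ?_
    obtain ⟨W, V, hW, hV, hxW, hWV⟩ := exists_affine_pair g (π x)
    exact ⟨π ⁻¹ᵁ W, V, π.preimage_mono hWV, hW.preimage π, hV, hxW,
      (key W V hWV hW hV).1 (on_of_isRelFP g _ hF hW hV hWV)⟩

end FlatnLib
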